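import Cfsg.Agent.Schur.Enc
import Cfsg.Agent.Golay.Mathieu

set_option autoImplicit false
set_option maxRecDepth 100000

namespace Cfsg.Agent.Schur.M23
open Cfsg.Agent.Comp Cfsg.Agent.Schur

noncomputable def n0 : Net :=
(Net.cons (nat_lit 0x800) (nat_lit 12)
(Net.cons (nat_lit 0x20) (nat_lit 6)
(Net.cons (nat_lit 0x4) (nat_lit 3)
(Net.cons (nat_lit 0x249248) (nat_lit 2)
(Net.cons (nat_lit 0x249249) (nat_lit 1)
(Net.cons (nat_lit 0x104106) (nat_lit 3)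
(Net.cons (nat_lit 0x20030) (nat_lit 6)
(Net.cons (nat_lit 0xc00) (nat_lit 12)
Net.nil))))))))

noncomputable def n1 : Net :=
(Net.cons (nat_lit 0x66a) (nat_lit 12)
(Net.cons (nat_lit 0x10028) (nat_lit 6)
(Net.cons (nat_lit 0x6100) (nat_lit 3)
(Net.cons (nat_lit 0x48200) (nat_lit 2)
(Net.cons (nat_lit 0x48249) (nat_lit 1)
(Net.cons (nat_lit 0x240) (nat_lit 2)
(Net.cons (nat_lit 0x45047) (nat_lit 3)
(Net.cons (nat_lit 0xa03f) (nat_lit 6)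
(Net.cons (nat_lit 0x754) (nat_lit 12)
Net.nil)))))))))

noncomputable def n2 : Net :=
(Net.cons (nat_lit 0xe64) (nat_lit 12)
(Net.cons (nat_lit 0x24020) (nat_lit 6)
(Net.cons (nat_lit 0x4) (nat_lit 3)
(Net.cons (nat_lit 0x200) (nat_lit 2)
(Net.cons (nat_lit 0x241208) (nat_lit 1)
(Net.cons (nat_lit 0x1008) (nat_lit 2)
(Net.cons (nat_lit 0x871c6) (nat_lit 3)
(Net.cons (nat_lit 0x3022) (nat_lit 6)
(Net.cons (nat_lit 0x8c0) (nat_lit 12)
Net.nil)))))))))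

noncomputable def n3 : Net :=
(Net.cons (nat_lit 0x59a) (nat_lit 12)
(Net.cons (nat_lit 0x3203a) (nat_lit 6)
(Net.cons (nat_lit 0x182186) (nat_lit 3)
(Net.cons (nat_lit 0x40000) (nat_lit 2)
(Net.cons (nat_lit 0x48048) (nat_lit 1)
(Net.cons (nat_lit 0x240048) (nat_lit 2)
(Net.cons (nat_lit 0x83144) (nat_lit 3)
(Net.cons (nat_lit 0x30014) (nat_lit 6)
(Net.cons (nat_lit 0x640) (nat_lit 12)
Net.nil)))))))))

noncomputable def n4 : Net :=
(Net.cons (nat_lit 0x8a8) (nat_lit 12)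
(Net.cons (nat_lit 0x2e004) (nat_lit 6)
(Net.cons (nat_lit 0x182006) (nat_lit 3)
(Net.cons (nat_lit 0x9001) (nat_lit 2)
(Net.cons (nat_lit 0x49001) (nat_lit 1)
(Net.cons (nat_lit 0x208049) (nat_lit 2)
(Net.cons (nat_lit 0x1086) (nat_lit 3)
(Net.cons (nat_lit 0x1f000) (nat_lit 6)
(Net.cons (nat_lit 0xfb0) (nat_lit 12)
Net.nil)))))))))

noncomputable def n5 : Net :=
(Net.cons (nat_lit 0x3d6) (nat_lit 12)
(Net.cons (nat_lit 0xe030) (nat_lit 6)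
(Net.cons (nat_lit 0x102006) (nat_lit 3)
(Net.cons (nat_lit 0x209208) (nat_lit 2)
(Net.cons (nat_lit 0x209248) (nat_lit 1)
(Net.cons (nat_lit 0x8000) (nat_lit 2)
(Net.cons (nat_lit 0x104084) (nat_lit 3)
(Net.cons (nat_lit 0xe02a) (nat_lit 6)
(Net.cons (nat_lit 0x2da) (nat_lit 12)
Net.nil)))))))))

noncomputable def n6 : Net :=
(Net.cons (nat_lit 0x5e0) (nat_lit 12)
(Net.cons (nat_lit 0x3c030) (nat_lit 6)
(Net.cons (nat_lit 0x4000) (nat_lit 3)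
(Net.cons (nat_lit 0x8008) (nat_lit 2)
(Net.cons (nat_lit 0x9048) (nat_lit 1)
(Net.cons (nat_lit 0x208240) (nat_lit 2)
(Net.cons (nat_lit 0xc40c0) (nat_lit 3)
(Net.cons (nat_lit 0x29028) (nat_lit 6)
(Net.cons (nat_lit 0x7e0) (nat_lit 12)
Net.nil)))))))))

noncomputable def n7 : Net :=
(Net.cons (nat_lit 0x54a) (nat_lit 12)
(Net.cons (nat_lit 0x12000) (nat_lit 6)
(Net.cons (nat_lit 0x40) (nat_lit 2)
(Net.cons (nat_lit 0x1040) (nat_lit 1)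
(Net.cons (nat_lit 0x48040) (nat_lit 2)
(Net.cons (nat_lit 0x46142) (nat_lit 3)
(Net.cons (nat_lit 0x12018) (nat_lit 6)
(Net.cons (nat_lit 0x70a) (nat_lit 12)
Net.nil))))))))

noncomputable def n8 : Net :=
(Net.cons (nat_lit 0x430) (nat_lit 12)
(Net.cons (nat_lit 0x80000) (nat_lit 3)
(Net.cons (nat_lit 0x40) (nat_lit 2)
(Net.cons (nat_lit 0x40040) (nat_lit 1)
(Net.cons (nat_lit 0x240) (nat_lit 2)
(Net.cons (nat_lit 0x7040) (nat_lit 3)
(Net.cons (nat_lit 0x8000) (nat_lit 6)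
(Net.cons (nat_lit 0x500) (nat_lit 12)
Net.nil))))))))

noncomputable def n9 : Net :=
(Net.cons (nat_lit 0x148) (nat_lit 12)
(Net.cons (nat_lit 0x14010) (nat_lit 6)
(Net.cons (nat_lit 0x8) (nat_lit 1)
(Net.cons (nat_lit 0x1240) (nat_lit 2)
(Net.cons (nat_lit 0x42140) (nat_lit 3)
(Net.cons (nat_lit 0x14010) (nat_lit 6)
(Net.cons (nat_lit 0x1d8) (nat_lit 12)
Net.nil)))))))

noncomputable def n10 : Net :=
(Net.cons (nat_lit 0x30) (nat_lit 12)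
(Net.cons (nat_lit 0x2014) (nat_lit 6)
(Net.cons (nat_lit 0x180104) (nat_lit 3)
(Net.cons (nat_lit 0x48) (nat_lit 2)
(Net.cons (nat_lit 0x49048) (nat_lit 1)
(Net.cons (nat_lit 0x200008) (nat_lit 2)
(Net.cons (nat_lit 0x184184) (nat_lit 3)
(Net.cons (nat_lit 0x18004) (nat_lit 6)
(Net.cons (nat_lit 0x540) (nat_lit 12)
Net.nil)))))))))

noncomputable def n11 : Net :=
(Net.cons (nat_lit 0x7f2) (nat_lit 12)
(Net.cons (nat_lit 0x3e000) (nat_lit 6)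
(Net.cons (nat_lit 0x6100) (nat_lit 3)
(Net.cons (nat_lit 0x40) (nat_lit 2)
(Net.cons (nat_lit 0x1040) (nat_lit 1)
(Net.cons (nat_lit 0x8040) (nat_lit 2)
(Net.cons (nat_lit 0x144002) (nat_lit 3)
(Net.cons (nat_lit 0x3e010) (nat_lit 6)
(Net.cons (nat_lit 0x592) (nat_lit 12)
Net.nil)))))))))

noncomputable def T : List Net := [n0, n1, n2, n3, n4, n5, n6, n7, n8, n9, n10, n11]

theorem ok : TOK 24 T := TOK_of_ok (by decide +kernel)

def E : List (List Nat × List Nat) :=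
  [([1, 0, 1, 1, 2], [0, 1, 1, 1]),
   ([1, 1, 1, 0, 3], [0, 1, 0, 0, 1, 1]),
   ([3, 2, 3, 4], [2, 3, 3]),
   ([3, 5], [2, 3, 2, 3]),
   ([5, 6], [4, 4, 4, 4, 5, 5]),
   ([4, 7], [5, 4, 4]),
   ([8], [6, 7, 6]),
   ([6, 9], [7, 6, 7, 6, 6]),
   ([7, 6, 6, 10], [6, 7, 7]),
   ([10, 9, 10, 11], [9, 8, 9, 9, 8, 10])]

theorem eqs : ∀ e ∈ E, ev (sig T) e.1 = ev (sig T) e.2 :=
  eq_of_eqsP ok (by norm_num) (show eqsP (nat_lit 24) (nat_lit 5) (nat_lit 0) (nat_lit 5) T E = true by decide +kernel)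

noncomputable def phi : ↥Cfsg.Spor.M23 →* Equiv.Perm ℕ := (encHom Golay.gE).comp (Cfsg.Spor.M23).subtype

theorem rep0 : ∃ s, Rep s 2 24 T phi :=
  rep_of_gen Golay.gE (w := 5) (by norm_num) Golay.gen_M23 ok rfl (by decide +kernel)

noncomputable def s : ℕ → ↥Cfsg.Spor.M23 := rep0.choose

theorem rep : Rep s 2 24 T phi := rep0.choose_spec

theorem card : Finite ↥Cfsg.Spor.M23 ∧ Nat.card ↥Cfsg.Spor.M23 = 10200960 := ⟨inferInstance, Golay.card_M23⟩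

theorem inj : Function.Injective phi := encHom_sub_injective _ _

theorem allIn : AllIn phi.range T := allIn_of_rep rep eqs (L' := 12) rfl (by decide +kernel)

end Cfsg.Agent.Schur.M23
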