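import Cfsg.Agent.Schur.M23.Base

set_option autoImplicit false
set_option maxRecDepth 100000

namespace Cfsg.Agent.Schur.M23
open Cfsg.Agent.Comp Cfsg.Agent.Schur

namespace P2

noncomputable def x0 : Net :=
(Net.cons (nat_lit 0xa0) (nat_lit 12)
(Net.cons (nat_lit 0x3c020) (nat_lit 6)
(Net.cons (nat_lit 0x6080) (nat_lit 3)
(Net.cons (nat_lit 0x208049) (nat_lit 2)
(Net.cons (nat_lit 0x208249) (nat_lit 1)
(Net.cons (nat_lit 0x240201) (nat_lit 2)
(Net.cons (nat_lit 0x45000) (nat_lit 3)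
(Net.cons (nat_lit 0x2e036) (nat_lit 6)
(Net.cons (nat_lit 0x6c0) (nat_lit 12)
Net.nil)))))))))

noncomputable def x1 : Net :=
(Net.cons (nat_lit 0xb30) (nat_lit 12)
(Net.cons (nat_lit 0x14020) (nat_lit 6)
(Net.cons (nat_lit 0x184) (nat_lit 3)
(Net.cons (nat_lit 0x200200) (nat_lit 2)
(Net.cons (nat_lit 0x201248) (nat_lit 1)
(Net.cons (nat_lit 0x248048) (nat_lit 2)
(Net.cons (nat_lit 0x141044) (nat_lit 3)
(Net.cons (nat_lit 0x3e034) (nat_lit 6)
(Net.cons (nat_lit 0xffc) (nat_lit 12)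
Net.nil)))))))))

noncomputable def x2 : Net :=
(Net.cons (nat_lit 0xc70) (nat_lit 12)
(Net.cons (nat_lit 0x1e012) (nat_lit 6)
(Net.cons (nat_lit 0x2) (nat_lit 3)
(Net.cons (nat_lit 0x8001) (nat_lit 2)
(Net.cons (nat_lit 0x9009) (nat_lit 1)
(Net.cons (nat_lit 0x8001) (nat_lit 2)
(Net.cons (nat_lit 0x1c0042) (nat_lit 3)
(Net.cons (nat_lit 0x1e012) (nat_lit 6)
(Net.cons (nat_lit 0xc70) (nat_lit 12)
Net.nil)))))))))

noncomputable def x3 : Net :=
(Net.cons (nat_lit 0x6ca) (nat_lit 12)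
(Net.cons (nat_lit 0x3802c) (nat_lit 6)
(Net.cons (nat_lit 0x2006) (nat_lit 3)
(Net.cons (nat_lit 0x1) (nat_lit 2)
(Net.cons (nat_lit 0x241009) (nat_lit 1)
(Net.cons (nat_lit 0x1201) (nat_lit 2)
(Net.cons (nat_lit 0x1021c4) (nat_lit 3)
(Net.cons (nat_lit 0x2102e) (nat_lit 6)
(Net.cons (nat_lit 0x5a) (nat_lit 12)
Net.nil)))))))))

noncomputable def x4 : Net :=
(Net.cons (nat_lit 0xc6) (nat_lit 12)
(Net.cons (nat_lit 0x2026) (nat_lit 6)
(Net.cons (nat_lit 0x84086) (nat_lit 3)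
(Net.cons (nat_lit 0x41) (nat_lit 2)
(Net.cons (nat_lit 0x41249) (nat_lit 1)
(Net.cons (nat_lit 0x8201) (nat_lit 2)
(Net.cons (nat_lit 0x84146) (nat_lit 3)
(Net.cons (nat_lit 0x2026) (nat_lit 6)
(Net.cons (nat_lit 0xc6) (nat_lit 12)
Net.nil)))))))))

noncomputable def x5 : Net :=
(Net.cons (nat_lit 0xc84) (nat_lit 12)
(Net.cons (nat_lit 0x18008) (nat_lit 6)
(Net.cons (nat_lit 0x180006) (nat_lit 3)
(Net.cons (nat_lit 0x1) (nat_lit 2)
(Net.cons (nat_lit 0x200001) (nat_lit 1)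
(Net.cons (nat_lit 0x41009) (nat_lit 2)
(Net.cons (nat_lit 0x1820c6) (nat_lit 3)
(Net.cons (nat_lit 0x18008) (nat_lit 6)
(Net.cons (nat_lit 0xc84) (nat_lit 12)
Net.nil)))))))))

noncomputable def x6 : Net :=
(Net.cons (nat_lit 0xc48) (nat_lit 12)
(Net.cons (nat_lit 0x2403c) (nat_lit 6)
(Net.cons (nat_lit 0x186000) (nat_lit 3)
(Net.cons (nat_lit 0x200000) (nat_lit 2)
(Net.cons (nat_lit 0x248008) (nat_lit 1)
(Net.cons (nat_lit 0x201240) (nat_lit 2)
(Net.cons (nat_lit 0x186080) (nat_lit 3)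
(Net.cons (nat_lit 0x2403c) (nat_lit 6)
(Net.cons (nat_lit 0xc48) (nat_lit 12)
Net.nil)))))))))

noncomputable def x7 : Net :=
(Net.cons (nat_lit 0x5a0) (nat_lit 12)
(Net.cons (nat_lit 0x30018) (nat_lit 6)
(Net.cons (nat_lit 0x102004) (nat_lit 3)
(Net.cons (nat_lit 0x40000) (nat_lit 2)
(Net.cons (nat_lit 0x48208) (nat_lit 1)
(Net.cons (nat_lit 0x201208) (nat_lit 2)
(Net.cons (nat_lit 0x183046) (nat_lit 3)
(Net.cons (nat_lit 0x33002) (nat_lit 6)
(Net.cons (nat_lit 0x1fe) (nat_lit 12)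
Net.nil)))))))))

noncomputable def x8 : Net :=
(Net.cons (nat_lit 0x84c) (nat_lit 12)
(Net.cons (nat_lit 0x3c01c) (nat_lit 6)
(Net.cons (nat_lit 0x6080) (nat_lit 3)
(Net.cons (nat_lit 0x41048) (nat_lit 2)
(Net.cons (nat_lit 0x241248) (nat_lit 1)
(Net.cons (nat_lit 0x9040) (nat_lit 2)
(Net.cons (nat_lit 0x143080) (nat_lit 3)
(Net.cons (nat_lit 0x37014) (nat_lit 6)
(Net.cons (nat_lit 0xcbc) (nat_lit 12)
Net.nil)))))))))

noncomputable def x9 : Net :=
(Net.cons (nat_lit 0x968) (nat_lit 12)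
(Net.cons (nat_lit 0x3a014) (nat_lit 6)
(Net.cons (nat_lit 0x104180) (nat_lit 3)
(Net.cons (nat_lit 0x8208) (nat_lit 2)
(Net.cons (nat_lit 0x248248) (nat_lit 1)
(Net.cons (nat_lit 0x201209) (nat_lit 2)
(Net.cons (nat_lit 0x1c3181) (nat_lit 3)
(Net.cons (nat_lit 0x1900d) (nat_lit 6)
(Net.cons (nat_lit 0xed1) (nat_lit 12)
Net.nil)))))))))

noncomputable def R0 : List Net := [x0, x1, x2, x3, x4, x5, x6, x7, x8, x9]

noncomputable def R : List Net := R0 ++ Cfsg.Agent.Schur.M23.T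

theorem ok : TOK 24 R := tok_append (TOK_of_ok (by decide +kernel)) Cfsg.Agent.Schur.M23.ok

def D : List (List Nat × List Nat) :=
  [([0], [21, 13, 12, 17, 16, 14, 16, 19, 16, 19, 20, 20, 21, 21]),
   ([1], [19, 15, 14, 19, 16, 18, 20, 18]),
   ([2], [15, 15, 18, 18, 16, 20, 18]),
   ([3], [14, 16, 19, 16, 21, 18, 20, 21, 21]),
   ([4], [14, 17, 16, 16, 16, 19, 20, 18, 21, 21]),
   ([5], [18, 18, 14, 20, 16, 18, 20, 18, 21]),
   ([6], [17, 14, 21, 18, 16, 21, 20, 21, 21]),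
   ([7], [21, 12, 12, 18, 14, 16, 16, 16, 19, 20, 18, 21, 21]),
   ([8], [17, 15, 16, 16, 18, 20, 18, 21, 21]),
   ([9], [11, 10, 11, 19, 16, 12, 16, 14, 16, 18, 16, 21, 18, 20])]

theorem defs : ∀ e ∈ D, ev (sig R) e.1 = ev (sig R) e.2 :=
  eq_of_eqsP ok (by norm_num) (show eqsP (nat_lit 24) (nat_lit 5) (nat_lit 0) (nat_lit 5) R D = true by decide +kernel)

theorem allIn : AllIn Cfsg.Agent.Schur.M23.phi.range R := AllIn.ext Cfsg.Agent.Schur.M23.allIn (o := 10) rfl defs (by decide +kernel)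

def T : List (List (List Nat)) :=
  [[[3]],
   [[1, 3, 4, 6], [5, 6]],
   [[2, 4], [2, 6], []],
   [[3], [3, 5], [3, 5], [6]],
   [[4, 5], [4, 5, 6], [4], [4, 6], []],
   [[5, 6], [5], [5], [5], [5], []],
   [[6], [6], [6], [6], [6], [6], []]]

def Y : List (Nat × List Nat × List Nat) :=
  [(7, [4], [5]),
   (8, [3, 4, 6], [6]),
   (9, [1], [1, 2, 3, 6]),
   (9, [2], [4, 5, 6]),
   (9, [3], [2, 3, 4, 6]),
   (9, [4], [2, 6]),
   (9, [6], [5])]

theorem eqs : ∀ e ∈ (pcEqs 2 7 T ++ stEqs Y), ev (sig R) e.1 = ev (sig R) e.2 :=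
  eq_of_eqsP ok (by norm_num) (show eqsP (nat_lit 24) (nat_lit 5) (nat_lit 0) (nat_lit 5) R (pcEqs 2 7 T ++ stEqs Y) = true by decide +kernel)

def lv : List (List (List Nat) × List Nat × Nat × Nat) :=
  [([[0]], [0], 1, 2),
   ([[3, 4, 6], [1]], [1, 0], 16, 4),
   ([[5, 6], [4, 5], [4], [2]], [2, 3, 0, 1], 2, 16)]

theorem low : 2 ^ 7 ≤ Nat.card (gen (sig R) 7) :=
  low_gen (l := 5) (lv := lv) ok (by norm_num) (by decide +kernel) (by decide +kernel)

def I0 : List Ins :=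
  [Ins.cons (nat_lit 0x1) (nat_lit 1) (nat_lit 0x41) (nat_lit 0x701),
   Ins.cons (nat_lit 0x4) (nat_lit 1) (nat_lit 0x104) (nat_lit 0x1901),
   Ins.cons (nat_lit 0x4) (nat_lit 1) (nat_lit 0xc3) (nat_lit 0x150101201),
   Ins.cons (nat_lit 0x6) (nat_lit 1) (nat_lit 0x104) (nat_lit 0x1b01),
   Ins.cons (nat_lit 0x4) (nat_lit 1) (nat_lit 0x44) (nat_lit 0x1601),
   Ins.cons (nat_lit 0x2) (nat_lit 1) (nat_lit 0x82) (nat_lit 0x170101101),
   Ins.cons (nat_lit 0x3) (nat_lit 1) (nat_lit 0x43) (nat_lit 0xf0100d01),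
   Ins.cons (nat_lit 0x5) (nat_lit 1) (nat_lit 0x45) (nat_lit 0x150101401),
   Ins.cons (nat_lit 0x6) (nat_lit 1) (nat_lit 0x46) (nat_lit 0x1c0101b01),
   Ins.cons (nat_lit 0x3) (nat_lit 1) (nat_lit 0x83) (nat_lit 0x1c0101801),
   Ins.cons (nat_lit 0x5) (nat_lit 1) (nat_lit 0x105) (nat_lit 0x1c0101a01),
   Ins.cons (nat_lit 0x6) (nat_lit 1) (nat_lit 0x41) (nat_lit 0x1c010160101301),
   Ins.cons (nat_lit 0x5) (nat_lit 1) (nat_lit 0x41) (nat_lit 0x15010100100e01),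
   Ins.cons (nat_lit 0x3) (nat_lit 1) (nat_lit 0x82) (nat_lit 0x1c01018010170101201),
   Ins.cons (nat_lit 0x3) (nat_lit 1) (nat_lit 0x41) (nat_lit 0x150100f0100b0100901),
   Ins.cons (nat_lit 0x4) (nat_lit 1) (nat_lit 0xc4) (nat_lit 0x18010150101301),
   Ins.cons (nat_lit 0x2) (nat_lit 1) (nat_lit 0x41) (nat_lit 0x1b01016010150100f0100e0100b0100a010080100701),
   Ins.cons (nat_lit 0x2) (nat_lit 1) (nat_lit 0x42) (nat_lit 0x1a01017010160101501014010100100f0100e0100c0100a0100801),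
   Ins.stab 7 [0, 0] [] (nat_lit 0x150100f01),
   Ins.stab 8 [1, 1] [] (nat_lit 0x1c010190100f0100e0100a01),
   Ins.stab 9 [5, 5] [] (nat_lit 0x1c010180100f0100601),
   Ins.stab 9 [4, 4] [6] (nat_lit 0x230101901018010130100f0100e0100d010090100601),
   Ins.stab 9 [3, 2] [2, 3, 6] (nat_lit 0x230101c0101a01017010110100e0100d0100c0100501)]

theorem ins0 : InsOK 7 0 35 T Y 1 I0 :=
  InsOK.of 10 (show lall (insOK (nat_lit 7) (nat_lit 0) (nat_lit 10) (nat_lit 35) T Y (nat_lit 1)) I0 = true by decide +kernel)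

def I : List Ins := I0

def K : List Nat :=
  []

def O : List Nat :=
  []

def U : List Nat :=
  [nat_lit 0x501004010020300101,
   nat_lit 0x8030050300301,
   nat_lit 0x601,
   nat_lit 0x5020040200202,
   nat_lit 0x402,
   nat_lit 0x802,
   nat_lit 0x502]

def C : List (List Nat) :=
  [[nat_lit 0x0],
  [nat_lit 0x0,
   nat_lit 0x0],
  [nat_lit 0x0,
   nat_lit 0x0,
   nat_lit 0x0],
  [nat_lit 0x101,
   nat_lit 0x0,
   nat_lit 0x140101301011010100100f0100c0100a01009010020100101,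
   nat_lit 0x1701016010150101401012010110100f0100e0100d0100c0100a01008010060100501004010030100101],
  [nat_lit 0x1401011010100100c0100a01009010020100101,
   nat_lit 0x170101601015010140101301011010100100f0100b0100a0100901006010050100101,
   nat_lit 0x13010100100c0100a010070100501,
   nat_lit 0x170101601015010130101201011010100100f0100e0100d01009010080100601003010020100101,
   nat_lit 0x13010100100c0100a0100501],
  [nat_lit 0x1701016010150101301012010110100f0100e0100c0100a0100901008010060100501003010020100101,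
   nat_lit 0x100100e0100c01006010050100301,
   nat_lit 0x100100c0100a010050100301,
   nat_lit 0xc01009010050100401,
   nat_lit 0x100100c0100a010080100501,
   nat_lit 0x100100c0100a0100501],
  [nat_lit 0x501,
   nat_lit 0x100100e0100c010050100301,
   nat_lit 0xa010090100401,
   nat_lit 0x201,
   nat_lit 0xb010090100401,
   nat_lit 0x401,
   nat_lit 0x90100401]]

theorem ord : ordsOK 2 (Nat.succ 1) 3 35 (insL I) K [] O = true :=
  show ordsOK (nat_lit 2) (Nat.succ (nat_lit 1)) (nat_lit 3) (nat_lit 35) (insL I) K [] O = true by decide +kernel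

theorem tgt0 : TgtOK 2 35 T 2 3 (K ++ insL I) U C 0 7 :=
  TgtOK.of 9 7 rfl (show tgtRows (nat_lit 2) (nat_lit 9) (nat_lit 35) T (nat_lit 2) (nat_lit 3) (K ++ insL I) U C (nat_lit 0) (nat_lit 7) = true by decide +kernel)

theorem gen : PGen ↥Cfsg.Spor.M23 2 [] :=
  haveI := Cfsg.Agent.Schur.M23.card.1
  pgen_net Cfsg.Agent.Schur.M23.inj allIn Cfsg.Agent.Schur.M23.card.2 (by norm_num) rfl eqs low (by norm_num) (by decide +kernel) (E := 0) (I := I)
    (ins0) ord (a := 1) tgt0 (by decide +kernel)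

end P2

end Cfsg.Agent.Schur.M23
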